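import Cfsg.Agent.OddHalf.D4.LineGTwoInst

/-!
# ODD, D4, (1B), `G_2(q)`, `q` even: the centre of the unipotent group (helper368)

`center_le` : `Z(U) ≤ X_ρ`, `ρ` the highest root; `comm_11` : `X_ρ ≤ Z(U)`.
-/

set_option autoImplicit false
set_option linter.unusedSectionVars false

namespace Cfsg.Agent.OddHalf.D4.G2.Center

open Subgroup CoxeterSystem Cfsg.Agent.ChevalleyStructure.CoxeterGeom Cfsg.Agent.Tits.Roots Cfsg.Agent.Tits.Core
  Cfsg.Agent.Nodes.Reps Cfsg.Agent.Nodes.BNOf Cfsg.Agent.Nodes.Bruhat Cfsg.Agent.Nodes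
  Cfsg.Agent.Nodes.Coroot Cfsg.Agent.KFacts.ChevTwoInst Cfsg.Agent.KFacts.ChevTwoTab
  Cfsg.Agent.KFacts.RgdTI Cfsg.Agent.KFacts.RgdFilt Cfsg.Agent.KFacts.RgdBorelTits
  Cfsg.Agent.OddHalf.D4.Line Cfsg.Agent.OddHalf.D4.LineFilt Cfsg.Agent.OddHalf.D4.LineRgd
  Cfsg.Agent.OddHalf.D4.LineGTwo Cfsg.Agent.OddHalf.D4.LineGTwoInst
open Cfsg.Lie Cfsg.Agent.ChevalleyStructure Cfsg.Agent.ChevalleyStructure.Elts
  Cfsg.Agent.ChevalleyStructure.RootVec Cfsg.Agent.ChevalleyStructure.RootVecTab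
  Cfsg.Agent.ChevalleyStructure.NPerm Cfsg.Agent.ChevalleyStructure.CoxeterGeomTypes Cfsg.Agent.Nodes.RGDChev
open scoped commutatorElement

universe u

variable (K : Type u) [Field K] [CharP K 2]

/-- the unipotent group -/
abbrev Up : Subgroup ↥(chevG2.group K) := RGD.Sup (XX K) (RGD.Pos CS isType.isCartan)

/-- the height filtration -/
abbrev VV (j : ℕ) : Subgroup ↥(chevG2.group K) := V (Yp (cs := CS) (h := isType.isCartan) (XX K)) wt j

variable {K}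

theorem xg_sq (r : ℕ) (t : K) : xg K r t * xg K r t = 1 := by
  rw [← xg_add, two0]
  exact Subtype.ext (xG_zero isType.inList _)

theorem xg_zero (r : ℕ) : xg K r 0 = 1 := Subtype.ext (xG_zero isType.inList _)

theorem xg_inv (r : ℕ) (t : K) : (xg K r t)⁻¹ = xg K r t := inv_eq_of_mul_eq_one_right (xg_sq r t)

theorem sq_of_mem {r : ℕ} (hr : r < 12) {x : ↥(chevG2.group K)} (hx : x ∈ XX K (vec chevG2 2 r)) : x * x = 1 := by
  obtain ⟨t, rfl⟩ := (mem_XX hr).1 hx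
  exact xg_sq r t

/-- the height of a root -/
theorem wt_eq {r : ℕ} (hr : 6 ≤ r) (hr' : r < 12) :
    (wt (cs := CS) (h := isType.isCartan) ⟨vec chevG2 2 r, pos_vec hr hr'⟩ : ℤ) = rt chevG2 r 0 + rt chevG2 r 1 := by
  rw [wt_cast, ht_vec]

/-- the heights -/
def hts (r : ℕ) : ℕ := if r = 6 ∨ r = 7 then 1 else r - 6

theorem rt_hts {r : ℕ} (hr : 6 ≤ r) (hr' : r < 12) : rt chevG2 r 0 + rt chevG2 r 1 = (hts r : ℤ) := by
  obtain ⟨h1, h2, h3, h4, h5, h6⟩ := tab_ht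
  have : r = 6 ∨ r = 7 ∨ r = 8 ∨ r = 9 ∨ r = 10 ∨ r = 11 := by omega
  rcases this with rfl | rfl | rfl | rfl | rfl | rfl <;> simp only [hts] <;> norm_num <;> assumption

theorem wt_hts {r : ℕ} (hr : 6 ≤ r) (hr' : r < 12) :
    wt (cs := CS) (h := isType.isCartan) ⟨vec chevG2 2 r, pos_vec hr hr'⟩ = hts r := by
  have h1 := wt_eq hr hr'
  rw [rt_hts hr hr'] at h1
  exact_mod_cast h1

theorem hcomm (i j : {x // x ∈ RGD.Pos CS isType.isCartan}) :
    ∀ a ∈ Yp (cs := CS) (h := isType.isCartan) (XX K) i, ∀ b ∈ Yp (cs := CS) (h := isType.isCartan) (XX K) j,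
    a * b * a⁻¹ * b⁻¹ ∈ VV K (wt j + 1) := by
  obtain ⟨x, hx⟩ := i
  obtain ⟨y, hy⟩ := j
  intro a ha b hb
  by_cases hxy : x = y
  · subst hxy
    obtain ⟨r, hr, hr', rfl⟩ := pos_iff hx
    obtain ⟨t, rfl⟩ := (mem_XX hr').1 ha
    obtain ⟨u, rfl⟩ := (mem_XX hr').1 hb
    have e : xg K r t * xg K r u * (xg K r t)⁻¹ * (xg K r u)⁻¹ = 1 := by rw [xg_self]; group
    rw [e]
    exact one_mem _
  · have hxy' : x ≠ -y := by
      rintro rfl
      have h1 := ht_pos hx.2 hx.1.ne_zero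
      have h2 := ht_pos hy.2 hy.1.ne_zero
      rw [map_neg] at h1
      omega
    have h1 := intComm_group isType K CS x y hx.1 hy.1 hxy hxy' a ha b hb
    rw [commutatorElement_def] at h1
    refine (FS_le fun z hz => ?_ : FS (XX K) {z | IB CS isType.isCartan x y z} ≤ _) h1
    obtain ⟨hz1, i, j, hi, hj, rfl⟩ := hz
    have h2 := ht_pos hx.2 hx.1.ne_zero
    have h3 := ht_pos hy.2 hy.1.ne_zero
    refine X_le_V ⟨hz1, ?_⟩ ?_
    · intro k
      have h4 := hx.2 k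
      have h5 := hy.2 k
      show 0 ≤ i * x k + j * y k
      exact add_nonneg (mul_nonneg hi.le h4) (mul_nonneg hj.le h5)
    · rw [map_add, map_zsmul, map_zsmul, smul_eq_mul, smul_eq_mul]
      have h4 := wt_cast (cs := CS) (h := isType.isCartan) ⟨y, hy⟩
      have h5 : (wt (cs := CS) (h := isType.isCartan) ⟨y, hy⟩ : ℤ) = LineRgd.ht y := h4
      push_cast
      rw [h5]
      nlinarith

theorem Up_eq : Up K = VV K 0 := V_zero.symm

theorem mem_VV {r : ℕ} (hr : 6 ≤ r) (hr' : r < 12) {j : ℕ} (hj : j ≤ hts r) (t : K) : xg K r t ∈ VV K j :=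
  X_le_V (pos_vec hr hr') (by rw [ht_vec, rt_hts hr hr']; exact_mod_cast hj) ((mem_XX hr').2 ⟨t, rfl⟩)

/-- independence -/
theorem eq_zero_of_mem [Finite K] {r : ℕ} (hr : 6 ≤ r) (hr' : r < 12) {j : ℕ} (hj : hts r < j) {t : K}
    (ht : xg K r t ∈ VV K j) : t = 0 := by
  have : Fact (Nat.Prime 2) := ⟨Nat.prime_two⟩
  have hW : Finite CoxeterMatrix.G₂.Group := finite_W isType CS
  have h1 := X_inf_V (rgd (K := K) isType CS 2) (intComm_group isType K CS) (pos_vec hr hr') (d := j)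
    (by rw [ht_vec, rt_hts hr hr']; exact_mod_cast hj)
  have h2 : xg K r t ∈ XX K (vec chevG2 2 r) ⊓ VV K j := ⟨(mem_XX hr').2 ⟨t, rfl⟩, ht⟩
  rw [h1, Subgroup.mem_bot] at h2
  exact xg_inj hr' h2

theorem VV_norm (d : ℕ) {s : ↥(chevG2.group K)} (hs : s ∈ VV K 0) : ∀ u ∈ VV K d, s * u * s⁻¹ ∈ VV K d :=
  V_norm hcomm d hs

theorem VV_comm (d : ℕ) {s : ↥(chevG2.group K)} (hs : s ∈ VV K 0) : ∀ u ∈ VV K d,
    s * u * s⁻¹ * u⁻¹ ∈ VV K (d + 1) := V_comm hcomm d hs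

/-- a single root of height `j` -/
theorem step {r : ℕ} (hr : 6 ≤ r) (hr' : r < 12) {j : ℕ} (h1 : hts r = j)
    (h2 : ∀ s, 6 ≤ s → s < 12 → hts s = j → s = r) {y : ↥(chevG2.group K)} (hy : y ∈ VV K j) :
    ∃ t, ∃ v ∈ VV K (j + 1), y = xg K r t * v := by
  refine V_induction (C := fun y => ∃ t, ∃ v ∈ VV K (j + 1), y = xg K r t * v) hy ?_ ?_ ?_
  · rintro ⟨x, hx⟩ hi g hg
    obtain ⟨s, hs, hs', rfl⟩ := pos_iff hx
    obtain ⟨t, rfl⟩ := (mem_XX hs').1 hg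
    rw [wt_hts hs hs'] at hi
    by_cases h3 : hts s = j
    · have h4 := h2 s hs hs' h3
      subst h4
      exact ⟨t, 1, one_mem _, by rw [mul_one]⟩
    · exact ⟨0, xg K s t, mem_VV hs hs' (by omega) t, by rw [xg_zero, one_mul]⟩
  · exact ⟨0, 1, one_mem _, by rw [xg_zero, one_mul]⟩
  · rintro _ _ - - ⟨t, v, hv, rfl⟩ ⟨t', v', hv', rfl⟩
    refine ⟨t + t', (xg K r t')⁻¹ * v * xg K r t' * v', mul_mem ?_ hv', by rw [xg_add]; group⟩
    have h3 := VV_norm (j + 1) (inv_mem (mem_VV hr hr' (Nat.zero_le _) t')) v hv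
    rwa [inv_inv] at h3

theorem VV_six : VV K 6 = ⊥ := by
  rw [eq_bot_iff]
  refine V_le fun i hi => ?_
  exfalso
  obtain ⟨x, hx⟩ := i
  obtain ⟨s, hs, hs', rfl⟩ := pos_iff hx
  rw [wt_hts hs hs'] at hi
  simp only [hts] at hi
  split_ifs at hi <;> omega

theorem hts_uniq {r j : ℕ} (hr : 8 ≤ r) (h1 : hts r = j) (s : ℕ) (hs : 6 ≤ s) (hs' : s < 12) (h2 : hts s = j) :
    s = r := by
  simp only [hts] at h1 h2
  split_ifs at h1 h2 <;> omega

theorem step5 {y : ↥(chevG2.group K)} (hy : y ∈ VV K 5) : ∃ f, y = xg K 11 f := by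
  obtain ⟨f, v, hv, rfl⟩ := step (K := K) (r := 11) (j := 5) (by norm_num) (by norm_num) rfl
    (hts_uniq (by norm_num) rfl) hy
  rw [show (5 + 1 : ℕ) = 6 from rfl, VV_six, Subgroup.mem_bot] at hv
  subst hv
  exact ⟨f, by rw [mul_one]⟩

theorem step4 {y : ↥(chevG2.group K)} (hy : y ∈ VV K 4) : ∃ e f, y = xg K 10 e * xg K 11 f := by
  obtain ⟨e, v, hv, rfl⟩ := step (K := K) (r := 10) (j := 4) (by norm_num) (by norm_num) rfl
    (hts_uniq (by norm_num) rfl) hy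
  obtain ⟨f, rfl⟩ := step5 hv
  exact ⟨e, f, rfl⟩

theorem step2 {y : ↥(chevG2.group K)} (hy : y ∈ VV K 2) :
    ∃ c d e f, y = xg K 8 c * (xg K 9 d * (xg K 10 e * xg K 11 f)) := by
  obtain ⟨c, v, hv, rfl⟩ := step (K := K) (r := 8) (j := 2) (by norm_num) (by norm_num) rfl
    (hts_uniq (by norm_num) rfl) hy
  obtain ⟨d, w, hw, rfl⟩ := step (K := K) (r := 9) (j := 3) (by norm_num) (by norm_num) rfl
    (hts_uniq (by norm_num) rfl) hv
  obtain ⟨e, f, rfl⟩ := step4 hw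
  exact ⟨c, d, e, f, rfl⟩

section

variable [Finite K]

theorem gen_cases (i : Fin 6) (hi : i ≠ 1) (t : K) (g : ↥(chevG2.group K)) (hg : g = xs K i t) :
    ∃ a, ∃ v ∈ VV K 2, g = xg K 7 a * v := by
  have key : ∀ r, 8 ≤ r → r < 12 → g = xg K r t → ∃ a, ∃ v ∈ VV K 2, g = xg K 7 a * v := by
    rintro r hr hr' rfl
    refine ⟨0, xg K r t, mem_VV (by omega) hr' ?_ t, by rw [xg_zero, one_mul]⟩
    simp only [hts]
    split_ifs <;> omega
  have h1 : i = 0 ∨ i = 2 ∨ i = 3 ∨ i = 4 ∨ i = 5 := by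
    clear hg
    revert i
    decide
  rcases h1 with rfl | rfl | rfl | rfl | rfl
  · exact ⟨t, 1, one_mem _, by rw [mul_one]; exact hg⟩
  · exact key 8 (by norm_num) (by norm_num) hg
  · exact key 9 (by norm_num) (by norm_num) hg
  · exact key 10 (by norm_num) (by norm_num) hg
  · exact key 11 (by norm_num) (by norm_num) hg

/-- `U` in terms of root elements -/
theorem exists_decomp' {y : ↥(chevG2.group K)} (hy : y ∈ Up K) :
    ∃ s a, ∃ v ∈ VV K 2, y = xg K 6 s * (xg K 7 a * v) := by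
  obtain ⟨s, z, hz, rfl⟩ := (gu (K := K)).exists_decomp (Upos_le hy)
  suffices h : ∃ a, ∃ v ∈ VV K 2, z = xg K 7 a * v by
    obtain ⟨a, v, hv, rfl⟩ := h
    exact ⟨s, a, v, hv, rfl⟩
  refine Subgroup.iSup_induction (fun i : {i : Fin 6 // i ≠ 1} => (gu (K := K)).R i.1)
    (C := fun z => ∃ a, ∃ v ∈ VV K 2, z = xg K 7 a * v) hz ?_ ?_ ?_
  · rintro ⟨i, hi⟩ g ⟨t, ht⟩
    exact gen_cases i hi t g ht
  · exact ⟨0, 1, one_mem _, by rw [xg_zero, one_mul]⟩
  · rintro _ _ ⟨t, v, hv, rfl⟩ ⟨t', v', hv', rfl⟩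
    refine ⟨t + t', (xg K 7 t')⁻¹ * v * xg K 7 t' * v', mul_mem ?_ hv', by rw [xg_add]; group⟩
    have h3 := VV_norm 2 (inv_mem (mem_VV (K := K) (r := 7) (by norm_num) (by norm_num) (Nat.zero_le _) t')) v hv
    rwa [inv_inv] at h3

/-- `X_ρ ≤ Z(U)` -/
theorem comm_11 {u : ↥(chevG2.group K)} (hu : u ∈ Up K) (t : K) : u * xg K 11 t = xg K 11 t * u := by
  obtain ⟨-, -, -, -, -, h1⟩ := (gu (K := K)).q3 (Upos_le hu)
  have h2 : u * xg K 11 t * u⁻¹ = xg K 11 t := h1 t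
  calc u * xg K 11 t = u * xg K 11 t * u⁻¹ * u := by group
    _ = _ := by rw [h2]

theorem mem_Up {r : ℕ} (hr : 6 ≤ r) (hr' : r < 12) (t : K) : xg K r t ∈ Up K := by
  rw [Up_eq]
  exact mem_VV hr hr' (Nat.zero_le _) t

/-- **`Z(U) ≤ X_ρ`** -/
theorem center_le {z : ↥(chevG2.group K)} (hz : z ∈ Up K) (hc : ∀ u ∈ Up K, u * z = z * u) : ∃ t, z = xg K 11 t := by
  have G := gu (K := K)
  obtain ⟨s, a, v, hv, rfl⟩ := exists_decomp' hz
  obtain ⟨c, d, e, f, rfl⟩ := step2 hv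
  -- action on `x 10`
  have c710 : ∀ t u, xg K 7 t * xg K 10 u = xg K 10 u * xg K 7 t := G.c04
  have c810 : ∀ t u, xg K 8 t * xg K 10 u = xg K 10 u * xg K 8 t := G.c24
  have c811 : ∀ t u, xg K 8 t * xg K 11 u = xg K 11 u * xg K 8 t := G.c25
  have c910 : ∀ t u, xg K 9 t * xg K 10 u = xg K 10 u * xg K 9 t := G.c34
  have c911 : ∀ t u, xg K 9 t * xg K 11 u = xg K 11 u * xg K 9 t := G.c35
  have c1011 : ∀ t u, xg K 10 t * xg K 11 u = xg K 11 u * xg K 10 t := G.c45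
  have c711 : ∀ t u, xg K 7 t * xg K 11 u = xg K 11 u * xg K 7 t := G.c05
  have hs : s = 0 := by
    have h1 := hc _ (mem_Up (K := K) (r := 10) (by norm_num) (by norm_num) 1)
    have h2 : xg K 7 a * (xg K 8 c * (xg K 9 d * (xg K 10 e * xg K 11 f))) * xg K 10 1 =
        xg K 10 1 * (xg K 7 a * (xg K 8 c * (xg K 9 d * (xg K 10 e * xg K 11 f)))) := by
      have e1 := xg_self (K := K) 10 e 1
      simp only [mul_assoc]
      rw [← c1011 1 f, ← mul_assoc (xg K 10 e), e1, mul_assoc (xg K 10 1), ← mul_assoc (xg K 9 d), c910,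
        mul_assoc (xg K 10 1), ← mul_assoc (xg K 8 c), c810, mul_assoc (xg K 10 1), ← mul_assoc (xg K 7 a), c710,
        mul_assoc (xg K 10 1)]
    have h3 : xg K 10 1 * xg K 6 s = xg K 6 s * xg K 10 1 := by
      generalize xg K 7 a * (xg K 8 c * (xg K 9 d * (xg K 10 e * xg K 11 f))) = w at h1 h2
      rw [mul_assoc (xg K 6 s), h2, ← mul_assoc, ← mul_assoc] at h1
      exact mul_right_cancel h1
    have h4 : xg K 10 1 * xg K 6 s = xg K 11 (s * 1) * (xg K 6 s * xg K 10 1) := eb s 1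
    rw [h3] at h4
    have h5 := mul_eq_right.1 h4.symm
    have h6 := xg_inj (by norm_num) h5
    rwa [mul_one] at h6
  subst hs
  rw [xg_zero, one_mul] at hc ⊢
  -- action on `x 9`
  have hac : a = 0 ∧ c = 0 := by
    have h1 := hc _ (mem_Up (K := K) (r := 9) (by norm_num) (by norm_num) 1)
    have h2 : xg K 8 c * (xg K 9 d * (xg K 10 e * xg K 11 f)) * xg K 9 1 =
        xg K 8 c * xg K 9 1 * (xg K 9 d * (xg K 10 e * xg K 11 f)) := by
      have e1 := xg_self (K := K) 9 d 1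
      simp only [mul_assoc]
      rw [← c911 1 f, ← mul_assoc (xg K 10 e), ← c910, mul_assoc (xg K 9 1), ← mul_assoc (xg K 9 d), e1,
        mul_assoc (xg K 9 1)]
    rw [mul_assoc, h2, ← mul_assoc, ← mul_assoc, ← mul_assoc, ← mul_assoc] at h1
    have h3 : xg K 9 1 * xg K 7 a * xg K 8 c = xg K 7 a * xg K 8 c * xg K 9 1 := by
      have h4 : xg K 9 1 * xg K 7 a * xg K 8 c * (xg K 9 d * (xg K 10 e * xg K 11 f)) =
          xg K 7 a * xg K 8 c * xg K 9 1 * (xg K 9 d * (xg K 10 e * xg K 11 f)) := by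
        simp only [mul_assoc] at h1 ⊢
        exact h1
      exact mul_right_cancel h4
    have h4 : xg K 9 1 * xg K 7 a = xg K 10 (a * 1) * (xg K 7 a * xg K 9 1) := da a 1
    have h5 : xg K 9 1 * xg K 8 c = xg K 11 (c * 1) * (xg K 8 c * xg K 9 1) := dc c 1
    rw [mul_one] at h4 h5
    have h6 : xg K 9 1 * xg K 7 a * xg K 8 c = xg K 10 a * xg K 11 c * (xg K 7 a * xg K 8 c * xg K 9 1) := by
      calc xg K 9 1 * xg K 7 a * xg K 8 c = xg K 10 a * xg K 7 a * (xg K 9 1 * xg K 8 c) := by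
            rw [h4]; simp only [mul_assoc]
        _ = xg K 10 a * (xg K 7 a * xg K 11 c) * (xg K 8 c * xg K 9 1) := by rw [h5]; simp only [mul_assoc]
        _ = _ := by rw [c711]; simp only [mul_assoc]
    rw [h3] at h6
    exact G.ind4 a c (mul_eq_right.1 h6.symm)
  obtain ⟨rfl, rfl⟩ := hac
  rw [xg_zero, xg_zero, one_mul, one_mul] at hc ⊢
  -- action on `x 7`
  have hd : d = 0 := by
    have h1 := hc _ (mem_Up (K := K) (r := 7) (by norm_num) (by norm_num) 1)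
    have h2 : xg K 9 d * (xg K 10 e * xg K 11 f) * xg K 7 1 = xg K 9 d * xg K 7 1 * (xg K 10 e * xg K 11 f) := by
      simp only [mul_assoc]
      rw [← c711 1 f, ← mul_assoc (xg K 10 e), ← c710, mul_assoc (xg K 7 1)]
    rw [h2, ← mul_assoc] at h1
    have h3 := mul_right_cancel h1
    have h4 : xg K 9 d * xg K 7 1 = xg K 10 (1 * d) * (xg K 7 1 * xg K 9 d) := da 1 d
    rw [← h3] at h4
    have h5 := xg_inj (by norm_num) (mul_eq_right.1 h4.symm)
    rwa [one_mul] at h5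
  subst hd
  rw [xg_zero, one_mul] at hc ⊢
  -- action on `x 6`
  have he : e = 0 := by
    have h1 := hc _ (mem_Up (K := K) (r := 6) (by norm_num) (by norm_num) 1)
    have c611 : ∀ t u, xg K 6 t * xg K 11 u = xg K 11 u * xg K 6 t := G.c15
    rw [mul_assoc, ← c611 1 f, ← mul_assoc, ← mul_assoc] at h1
    have h3 := mul_right_cancel h1
    have h4 : xg K 10 e * xg K 6 1 = xg K 11 (1 * e) * (xg K 6 1 * xg K 10 e) := eb 1 e
    rw [← h3] at h4
    have h5 := xg_inj (by norm_num) (mul_eq_right.1 h4.symm)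
    rwa [one_mul] at h5
  subst he
  rw [xg_zero, one_mul]
  exact ⟨f, rfl⟩

end

end Cfsg.Agent.OddHalf.D4.G2.Center
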