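import Cfsg.Agent.OddHalf.D4.G2.Center
import Cfsg.Agent.OddHalf.D4.Free.AutFacts
import Cfsg.Agent.KFacts.RgdChevCoord
import Cfsg.Agent.KFacts.RgdOver

/-!
# ODD, D4, (1B), free pairs: the K-facts for `G_2(q)`, `q ≥ 4` even (helper368)

`aFacts_G2`, `bFacts_G2`.
-/

set_option autoImplicit false
set_option linter.unusedSectionVars false

namespace Cfsg.Agent.OddHalf.D4.G2.Free

open Subgroup CoxeterSystem Cfsg.Agent.ChevalleyStructure.CoxeterGeom Cfsg.Agent.Tits.Roots Cfsg.Agent.Tits.Core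
  Cfsg.Agent.Nodes.Reps Cfsg.Agent.Nodes.BNOf Cfsg.Agent.Nodes.Bruhat Cfsg.Agent.Nodes
  Cfsg.Agent.Nodes.OppDec Cfsg.Agent.Nodes.LeviDec Cfsg.Agent.Nodes.NormalForm Cfsg.Agent.Nodes.NormX
  Cfsg.Agent.Nodes.Coroot Cfsg.Agent.KFacts.ChevTwoInst Cfsg.Agent.KFacts.ChevTwoTab
  Cfsg.Agent.KFacts.RgdTI Cfsg.Agent.KFacts.RgdFilt Cfsg.Agent.KFacts.RgdBorelTits Cfsg.Agent.KFacts.RgdPar
  Cfsg.Agent.KFacts.RgdOpp Cfsg.Agent.KFacts.RgdAut Cfsg.Agent.KFacts.RgdDiag Cfsg.Agent.KFacts.RgdRigid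
  Cfsg.Agent.KFacts.RgdField Cfsg.Agent.KFacts.RgdTau Cfsg.Agent.KFacts.RgdOver Cfsg.Agent.KFacts.RgdCent
  Cfsg.Agent.OddHalf.D4.Line Cfsg.Agent.OddHalf.D4.LineFilt Cfsg.Agent.OddHalf.D4.LineRgd
  Cfsg.Agent.OddHalf.D4.LineGTwo Cfsg.Agent.OddHalf.D4.LineGTwoInst Cfsg.Agent.OddHalf.D4.G2.Center
  Cfsg.Agent.OddHalf.D4.Free
open Cfsg.Lie Cfsg.Agent.ChevalleyStructure Cfsg.Agent.ChevalleyStructure.Elts
  Cfsg.Agent.ChevalleyStructure.RootVec Cfsg.Agent.ChevalleyStructure.RootVecTab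
  Cfsg.Agent.ChevalleyStructure.NPerm Cfsg.Agent.ChevalleyStructure.CoxeterGeomTypes Cfsg.Agent.Nodes.RGDChev
open Cfsg.Agent.KFacts.RgdChevCoord (TT nc hc xc ch)
open scoped commutatorElement

universe u

/-! ### Two facts on finite fields -/

theorem cyclic_two {C : Type*} [Group C] [Finite C] [IsCyclic C] {a b : C} (ha : a * a = 1) (hb : b * b = 1) :
    a = 1 ∨ b = 1 ∨ a = b := by
  classical
  by_contra hcon
  push Not at hcon
  obtain ⟨h1, h2, h3⟩ := hcon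
  have := Fintype.ofFinite C
  have h4 := IsCyclic.card_pow_eq_one_le (α := C) (n := 2) (by norm_num)
  have h5 : ({1, a, b} : Finset C) ⊆ Finset.univ.filter fun x : C => x ^ 2 = 1 := by
    intro x hx
    simp only [Finset.mem_insert, Finset.mem_singleton] at hx
    rw [Finset.mem_filter]
    refine ⟨Finset.mem_univ _, ?_⟩
    rcases hx with rfl | rfl | rfl
    · exact one_pow 2
    · rw [pow_two, ha]
    · rw [pow_two, hb]
  have h6 := Finset.card_le_card h5
  have h7 : ({1, a, b} : Finset C).card = 3 := by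
    rw [Finset.card_insert_of_notMem, Finset.card_insert_of_notMem, Finset.card_singleton]
    · simpa using h3
    · simp only [Finset.mem_insert, Finset.mem_singleton, not_or]
      exact ⟨fun h => h1 h.symm, fun h => h2 h.symm⟩
  omega

/-- An automorphism fixing one of `a, b, a + b` for all `a, b` is trivial if the field has more than four elements. -/
theorem eq_one_of_half {K : Type*} [Field K] [Finite K] [CharP K 2] (hK : 4 < Nat.card K) {τ : K ≃+* K}
    (H : ∀ a b, τ a = a ∨ τ b = b ∨ τ (a + b) = a + b) : τ = 1 := by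
  classical
  by_contra hne
  obtain ⟨a, ha⟩ : ∃ a, τ a ≠ a := by
    by_contra h0
    push Not at h0
    exact hne (RingEquiv.ext h0)
  have h2 : ∀ t : K, t + t = 0 := CharTwo.add_self_eq_zero
  have hfix : ∀ c, τ c = c → c = 0 ∨ c = 1 := by
    intro c hc
    by_cases hc0 : c = 0
    · exact Or.inl hc0
    right
    have h3 : τ (c * a) ≠ c * a := by
      rw [map_mul, hc]
      exact fun h4 => ha (mul_left_cancel₀ hc0 h4)
    rcases H a (c * a) with h4 | h4 | h4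
    · exact absurd h4 ha
    · exact absurd h4 h3
    · rw [map_add, map_mul, hc] at h4
      have h5 : (1 + c) * (τ a + a) = 0 := by
        have h6 : τ a + c * τ a + (a + c * a) = 0 := by rw [h4, h2]
        calc (1 + c) * (τ a + a) = τ a + c * τ a + (a + c * a) := by ring
          _ = 0 := h6
      rcases mul_eq_zero.1 h5 with h6 | h6
      · have h7 : c + 1 = 1 + 1 := by rw [add_comm c 1, h6, h2]
        exact add_right_cancel h7
      · exfalso
        apply ha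
        have h7 : τ a + a = a + a := by rw [h6, h2]
        exact add_right_cancel h7
  have hall : ∀ b : K, b ∈ ({0, 1, a, a + 1} : Finset K) := by
    intro b
    simp only [Finset.mem_insert, Finset.mem_singleton]
    by_cases hb : τ b = b
    · rcases hfix b hb with h3 | h3
      · exact Or.inl h3
      · exact Or.inr (Or.inl h3)
    · rcases H a b with h4 | h4 | h4
      · exact absurd h4 ha
      · exact absurd h4 hb
      · have h5 : b = a + (a + b) := by rw [← add_assoc, h2, zero_add]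
        rcases hfix _ h4 with h6 | h6
        · right; right; left
          rw [h6, add_zero] at h5
          exact h5
        · right; right; right
          rw [h6] at h5
          exact h5
  have := Fintype.ofFinite K
  have h3 : (Finset.univ : Finset K) ⊆ {0, 1, a, a + 1} := fun b _ => hall b
  have h4 := Finset.card_le_card h3
  have h5 : ({0, 1, a, a + 1} : Finset K).card ≤ 4 := Finset.card_le_four
  rw [Finset.card_univ, ← Nat.card_eq_fintype_card] at h4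
  omega

/-! ### The group -/

section

variable {K : Type u} [Field K] [Finite K] [CharP K 2]

theorem RR (K : Type u) [Field K] [Finite K] [CharP K 2] :
    RGD CS isType.isCartan 2 (TT chevG2 K) (nc isType K) (XX K) :=
  have : Fact (Nat.Prime 2) := ⟨Nat.prime_two⟩
  rgd (K := K) isType CS 2

theorem sup_top (K : Type u) [Field K] [Finite K] [CharP K 2] :
    RGD.Sup (XX K) {x | IsRoot CS isType.isCartan x} = ⊤ := G1_eq_top isType CS

theorem gg_top (K : Type u) [Field K] [Finite K] [CharP K 2] :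
    GG CS isType.isCartan (TT chevG2 K) (XX K) = ⊤ := Cfsg.Agent.KFacts.RgdRigid.GG_eq_top (sup_top K)

theorem CC (K : Type u) [Field K] [Finite K] [CharP K 2] :
    Coords CS isType.isCartan (TT chevG2 K) (nc isType K) (XX K) (xc isType) (ch isType) :=
  have : Fact (Nat.Prime 2) := ⟨Nat.prime_two⟩
  Cfsg.Agent.KFacts.RgdChevCoord.coords isType CS 2

theorem HH (K : Type u) [Field K] [Finite K] [CharP K 2] :
    Coroots A (TT chevG2 K) (XX K) (ch (K := K) isType) (hc isType) :=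
  have : Fact (Nat.Prime 2) := ⟨Nat.prime_two⟩
  Cfsg.Agent.KFacts.RgdChevCoord.coroots isType CS 2

theorem xc_eq {r : ℕ} (hr : r < 12) (a : K) : xc isType (vec chevG2 2 r) a = xg K r a :=
  Subtype.ext (Cfsg.Agent.KFacts.RgdChevCoord.coe_xc isType (lt_nroots hr) a)

theorem tab_g2 (i j : Fin 2) (hij : i ≠ j) : CoxeterMatrix.G₂ i j ≠ 2 := by
  fin_cases i <;> fin_cases j
  · exact absurd rfl hij
  · simp [CoxeterMatrix.G₂]
  · simp [CoxeterMatrix.G₂]
  · exact absurd rfl hij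

theorem hconn (J : Set (Fin 2)) (hJ : J.Nonempty) (hJ' : J ≠ Set.univ) :
    ∃ a ∈ J, ∃ b, b ∉ J ∧ CoxeterMatrix.G₂ a b ≠ 2 := by
  obtain ⟨a, ha⟩ := hJ
  obtain ⟨b, hb⟩ := (Set.ne_univ_iff_exists_notMem J).1 hJ'
  refine ⟨a, ha, b, hb, tab_g2 a b ?_⟩
  rintro rfl
  exact hb ha

theorem tab_simple : chevG2.simple 0 = 7 ∧ chevG2.simple 1 = 6 ∧ chevG2.reflectRoot 0 6 = 10 ∧
    chevG2.reflectRoot 1 10 = 11 ∧ chevG2.reflectRoot 1 7 = 8 ∧ chevG2.reflectRoot 0 8 = 9 := by decide +kernel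

theorem sr_zero : (sr 0 : Fin 2 → ℤ) = vec chevG2 2 7 := by
  rw [← vec_simple isType 0]
  exact congrArg _ tab_simple.1

theorem sr_one : (sr 1 : Fin 2 → ℤ) = vec chevG2 2 6 := by
  rw [← vec_simple isType 1]
  exact congrArg _ tab_simple.2.1

theorem rep_zero {r : ℕ} (hr : r < 12) : rep CS isType.isCartan (CS.simple 0) (vec chevG2 2 r) =
    vec chevG2 2 (chevG2.reflectRoot 0 r) := rep_vec isType CS 0 (lt_nroots hr)

theorem rep_one {r : ℕ} (hr : r < 12) : rep CS isType.isCartan (CS.simple 1) (vec chevG2 2 r) =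
    vec chevG2 2 (chevG2.reflectRoot 1 r) := rep_vec isType CS 1 (lt_nroots hr)

/-- no diagram symmetry -/
theorem diag_one {β : MulAut ↥(chevG2.group K)} (hU : Fix β (Up K)) {σ : Equiv.Perm (Fin 2)}
    (D : Diag (TT chevG2 K) (XX K) β σ) : σ = 1 := by
  have hW : Finite CoxeterMatrix.G₂.Group := finite_W isType CS
  have hp : ∀ σ : Equiv.Perm (Fin 2), σ ≠ 1 → σ 0 = 1 ∧ σ 1 = 0 := by decide
  by_contra hσ
  obtain ⟨h0, h1⟩ := hp σ hσ
  have hM := D.matrix (RR K)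
  have h2 := D.root (RR K) hM (CS.simple 1 * CS.simple 0) 1
  obtain ⟨t1, t2, t3, t4, t5, t6⟩ := tab_simple
  rw [map_mul, hat_simple, hat_simple, h0, h1, rep_mul_apply, rep_mul_apply, sr_zero, sr_one,
    rep_one (r := 7) (by norm_num), rep_zero (r := 6) (by norm_num), t5, t3, rep_zero (r := 8) (by norm_num),
    rep_one (r := 10) (by norm_num), t6, t4] at h2
  have h3 : xg K 9 1 ∈ XX K (vec chevG2 2 9) := (mem_XX (by norm_num)).2 ⟨1, rfl⟩
  have h4 := h2 (β⁻¹ (xg K 9 1))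
  rw [MulAut.apply_inv_self] at h4
  obtain ⟨t, ht⟩ := (mem_XX (by norm_num)).1 (h4.1 h3)
  -- `xg 9 1` commutes with `U`
  have h5 : xg K 9 1 * xg K 7 1 = xg K 7 1 * xg K 9 1 := by
    have h6 : β⁻¹ (xg K 7 1) ∈ Up K := by
      rw [← hU, MulAut.apply_inv_self]
      exact mem_Up (by norm_num) (by norm_num) 1
    have h7 := comm_11 h6 t
    rw [← ht] at h7
    have h8 := congrArg β h7
    rw [map_mul, map_mul, MulAut.apply_inv_self, MulAut.apply_inv_self] at h8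
    exact h8.symm
  have h6 : xg K 9 1 * xg K 7 1 = xg K 10 (1 * 1) * (xg K 7 1 * xg K 9 1) := da 1 1
  rw [h5] at h6
  have h7 := xg_inj (by norm_num) (mul_eq_right.1 h6.symm)
  rw [mul_one] at h7
  exact one_ne_zero h7

/-- `α = conj u⁻¹ β`, `β` in the frame with the field automorphism `τ` -/
structure Rep (α : MulAut ↥(chevG2.group K)) (u : ↥(chevG2.group K)) (τ : K ≃+* K) : Prop where
  mem : u ∈ Up K
  tau : Tau (TT chevG2 K) (XX K) (ch isType) A (MulAut.conj u * α) 1 τ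

theorem exists_rep {α : MulAut ↥(chevG2.group K)} (hα : Fix α (Up K)) : ∃ u τ, Rep α u τ := by
  have hW : Finite CoxeterMatrix.G₂.Group := finite_W isType CS
  obtain ⟨u, hu, hU, -, -, σ, D⟩ := exists_frame_pow (RR K) (gg_top K) hα
  have h1 := diag_one hU D
  subst h1
  obtain ⟨τ, hτ⟩ := exists_tau (RR K) (CC K) (HH K) hconn D fun i j => rfl
  exact ⟨u, τ, hu, hτ⟩

theorem Rep.fixU {α : MulAut ↥(chevG2.group K)} {u : ↥(chevG2.group K)} {τ : K ≃+* K} (S : Rep α u τ) {k : ℕ}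
    (hα : Fix α (Up K)) (hk : α ^ k = 1) : (MulAut.conj u * α) ^ k = 1 := by
  have hW : Finite CoxeterMatrix.G₂.Group := finite_W isType CS
  exact pow_eq_one_of_frame (RR K) (gg_top K) hα S.mem (fix_UN_of_tau (RR K) S.tau) hk

theorem Rep.mul {α γ : MulAut ↥(chevG2.group K)} {u v : ↥(chevG2.group K)} {τ τ' : K ≃+* K} (S : Rep α u τ)
    (S' : Rep γ v τ') (hα : Fix α (Up K)) : Rep (α * γ) (u * α v) (τ * τ') := by
  refine ⟨mul_mem S.mem ((hα v).2 S'.mem), ?_⟩
  have h1 := S.tau.mul S'.tau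
  rw [mul_one] at h1
  have e : (MulAut.conj u * α) * (MulAut.conj v * γ) = MulAut.conj (u * α v) * (α * γ) := by
    ext y
    simp only [MulAut.mul_apply, MulAut.conj_apply, map_mul, map_inv, mul_inv_rev, mul_assoc]
  rwa [e] at h1

theorem Rep.inv {α : MulAut ↥(chevG2.group K)} {u : ↥(chevG2.group K)} {τ : K ≃+* K} (S : Rep α u τ)
    (hα : Fix α (Up K)) : Rep α⁻¹ (α⁻¹ u⁻¹) τ⁻¹ := by
  refine ⟨(hα.inv _).2 (inv_mem S.mem), ?_⟩
  have h1 := S.tau.inv
  rw [inv_one] at h1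
  have e : (MulAut.conj u * α)⁻¹ = MulAut.conj (α⁻¹ u⁻¹) * α⁻¹ := by
    rw [mul_inv_rev, ← map_inv MulAut.conj u]
    refine MulEquiv.ext fun y => ?_
    rw [MulAut.mul_apply, MulAut.mul_apply, MulAut.conj_apply, MulAut.conj_apply, map_mul, map_mul, map_inv α⁻¹ u⁻¹]
  rwa [e] at h1

theorem Rep.root {α : MulAut ↥(chevG2.group K)} {u : ↥(chevG2.group K)} {τ : K ≃+* K} (S : Rep α u τ) {r : ℕ}
    (hr : r < 12) : ∃ c, c ≠ 0 ∧ ∀ a, (MulAut.conj u * α) (xg K r a) = xg K r (c * τ a) := by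
  have hW : Finite CoxeterMatrix.G₂.Group := finite_W isType CS
  obtain ⟨c, hc, h1⟩ := S.tau.root (RR K) (CC K) (isRoot_vec isType CS (lt_nroots hr))
  refine ⟨c, hc, fun a => ?_⟩
  have h2 := h1 a
  have h3 : vec chevG2 2 r ∘ (1 : Equiv.Perm (Fin 2)).symm = vec chevG2 2 r := rfl
  rw [h3, xc_eq hr, xc_eq hr] at h2
  exact h2

theorem xg_injective {r : ℕ} (hr : r < 12) : Function.Injective (xg K r) := by
  intro a b hab
  have h1 : xg K r (a + b) = 1 := by rw [xg_add, hab, xg_sq]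
  have h2 := xg_inj hr h1
  have h3 : b + b = 0 := two0 b
  exact add_right_cancel (h2.trans h3.symm)

/-- action on `X_ρ` -/
theorem Rep.top {α : MulAut ↥(chevG2.group K)} {u : ↥(chevG2.group K)} {τ : K ≃+* K} (S : Rep α u τ) :
    ∃ c, c ≠ 0 ∧ ∀ a, α (xg K 11 a) = xg K 11 (c * τ a) := by
  obtain ⟨c, hc, h1⟩ := S.root (r := 11) (by norm_num)
  refine ⟨c, hc, fun a => ?_⟩
  have h2 := h1 a
  rw [MulAut.mul_apply, MulAut.conj_apply] at h2
  have h3 : α (xg K 11 a) = u⁻¹ * xg K 11 (c * τ a) * u := by rw [← h2]; group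
  rw [h3, mul_assoc, ← comm_11 S.mem, inv_mul_cancel_left]

theorem Rep.tau_one {α : MulAut ↥(chevG2.group K)} {u : ↥(chevG2.group K)} {τ : K ≃+* K} (S : Rep α u τ)
    (h : ∀ t, α (xg K 11 t) = xg K 11 t) : τ = 1 := by
  obtain ⟨c, -, h1⟩ := S.top
  have h2 : ∀ a, c * τ a = a := fun a => xg_injective (K := K) (r := 11) (by norm_num) (by rw [← h1, h])
  have h3 : c = 1 := by
    have := h2 1
    rwa [map_one, mul_one] at this
  ext a
  have := h2 a
  rwa [h3, one_mul] at this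

theorem Rep.inner {α : MulAut ↥(chevG2.group K)} {u : ↥(chevG2.group K)} (S : Rep α u 1) (hα : Fix α (Up K))
    {k : ℕ} (hk : α ^ 2 ^ k = 1) : α = MulAut.conj u⁻¹ := by
  have hW : Finite CoxeterMatrix.G₂.Group := finite_W isType CS
  have : Fact (Nat.Prime 2) := ⟨Nat.prime_two⟩
  have h1 := S.fixU hα hk
  have h2 := Tau.eq_one (RR K) (sup_top K) (CC K) S.tau h1
  rw [map_inv]
  exact eq_inv_of_mul_eq_one_right h2

/-- elements normalising `X_ρ` act on it by a scalar -/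
theorem scalar {y : ↥(chevG2.group K)} (hy : cj y (XX K (vec chevG2 2 11)) = XX K (vec chevG2 2 11)) :
    ∃ c : K, ∀ t, y * xg K 11 t * y⁻¹ = xg K 11 (c * t) := by
  have hW : Finite CoxeterMatrix.G₂.Group := finite_W isType CS
  have L : LR (RR K) (vec chevG2 2 11) := long (by simp)
  have h1 : y ∈ PS (TT chevG2 K) (XX K) (Ge CS isType.isCartan (vec chevG2 2 11)) := by
    rw [← L.normalizer, gg_top K]
    exact Subgroup.mem_inf.2 ⟨mem_normalizer_iff_cj.2 hy, Subgroup.mem_top _⟩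
  have hT : ∀ t ∈ TT chevG2 K, ∃ c : K, ∀ a, t * xg K 11 a * t⁻¹ = xg K 11 (c * a) := by
    intro t ht
    refine ⟨ch isType (vec chevG2 2 11) t, fun a => ?_⟩
    have h2 := ((CC K).coord _ (isRoot_vec isType CS (lt_nroots (r := 11) (by norm_num)))).act t ht a
    rw [xc_eq (by norm_num), xc_eq (by norm_num)] at h2
    exact h2
  let L' : Subgroup ↥(chevG2.group K) :=
    { carrier := {y | (∃ c : K, ∀ t, y * xg K 11 t * y⁻¹ = xg K 11 (c * t)) ∧
        ∃ c : K, ∀ t, y⁻¹ * xg K 11 t * y = xg K 11 (c * t)}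
      one_mem' := ⟨⟨1, fun t => by rw [one_mul, one_mul, inv_one, mul_one]⟩,
        ⟨1, fun t => by rw [one_mul, inv_one, one_mul, mul_one]⟩⟩
      mul_mem' := by
        rintro a b ⟨⟨c, hc⟩, d, hd⟩ ⟨⟨c', hc'⟩, d', hd'⟩
        refine ⟨⟨c * c', fun t => ?_⟩, d' * d, fun t => ?_⟩
        · calc a * b * xg K 11 t * (a * b)⁻¹ = a * (b * xg K 11 t * b⁻¹) * a⁻¹ := by group
            _ = _ := by rw [hc', hc, mul_assoc]
        · calc (a * b)⁻¹ * xg K 11 t * (a * b) = b⁻¹ * (a⁻¹ * xg K 11 t * a) * b := by group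
            _ = _ := by rw [hd, hd', mul_assoc]
      inv_mem' := by
        rintro a ⟨⟨c, hc⟩, d, hd⟩
        exact ⟨⟨d, fun t => by rw [inv_inv]; exact hd t⟩, c, fun t => by rw [inv_inv]; exact hc t⟩ }
  have hL : PS (TT chevG2 K) (XX K) (Ge CS isType.isCartan (vec chevG2 2 11)) ≤ L' := by
    refine sup_le ?_ ?_
    · intro t ht
      obtain ⟨c, hc⟩ := hT t ht
      obtain ⟨d, hd⟩ := hT t⁻¹ (inv_mem ht)
      refine ⟨⟨c, hc⟩, d, fun a => ?_⟩
      have := hd a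
      rwa [inv_inv] at this
    · intro u hu
      have h2 : ∀ t, u * xg K 11 t = xg K 11 t * u := fun t =>
        L.comm' hu ((mem_XX (by norm_num)).2 ⟨t, rfl⟩)
      refine ⟨⟨1, fun t => by rw [h2, one_mul, mul_inv_cancel_right]⟩, 1, fun t => ?_⟩
      rw [mul_assoc, ← h2, one_mul, inv_mul_cancel_left]
  exact (hL h1).1

/-! ### The facts -/

section Facts

variable {T : Sylow 2 ↥(chevG2.group K)} (hT : (T : Subgroup ↥(chevG2.group K)) = Up K)

include hT

theorem mem_T {x : ↥(chevG2.group K)} : x ∈ T ↔ x ∈ Up K := by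
  rw [← hT]
  exact Iff.rfl

theorem inZ_iff {z : ↥(chevG2.group K)} : InZ T z ↔ ∃ t, z = xg K 11 t := by
  constructor
  · rintro ⟨h1, h2⟩
    exact center_le ((mem_T hT).1 h1) fun u hu => h2 u ((mem_T hT).2 hu)
  · rintro ⟨t, rfl⟩
    exact ⟨(mem_T hT).2 (mem_Up (by norm_num) (by norm_num) t), fun u hu => comm_11 ((mem_T hT).1 hu) t⟩

variable {A' : Subgroup (MulAut ↥(chevG2.group K))} (hA : GoodA T A')

include hA

theorem fix_of_mem {α : MulAut ↥(chevG2.group K)} (hα : α ∈ A') : Fix α (Up K) := by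
  intro x
  constructor
  · intro h1
    have h2 := hA.norm _ (inv_mem hα) _ ((mem_T hT).2 h1)
    rw [MulAut.inv_apply_self] at h2
    exact (mem_T hT).1 h2
  · intro h1
    exact (mem_T hT).1 (hA.norm _ hα _ ((mem_T hT).2 h1))

omit hT in
theorem exists_pow {α : MulAut ↥(chevG2.group K)} (hα : α ∈ A') : ∃ k : ℕ, α ^ 2 ^ k = 1 := by
  obtain ⟨k, hk⟩ := hA.two ⟨α, hα⟩
  exact ⟨k, congrArg Subtype.val hk⟩

theorem fixZ_iff' {α : MulAut ↥(chevG2.group K)} (hα : α ∈ A') {u : ↥(chevG2.group K)} {τ : K ≃+* K}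
    (S : Rep α u τ) : FixZ T α ↔ τ = 1 := by
  constructor
  · intro h1
    exact S.tau_one fun t => h1 _ ((inZ_iff hT).2 ⟨t, rfl⟩)
  · rintro rfl z hz
    obtain ⟨k, hk⟩ := exists_pow hA hα
    rw [S.inner (fix_of_mem hT hA hα) hk, MulAut.conj_apply, inv_inv]
    obtain ⟨t, rfl⟩ := (inZ_iff hT).1 hz
    rw [mul_assoc, ← comm_11 S.mem, inv_mul_cancel_left]

/-- an element without field part is inner -/
theorem exists_conj {α : MulAut ↥(chevG2.group K)} (hα : α ∈ A') (h : FixZ T α) :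
    ∃ u ∈ Up K, α = MulAut.conj u := by
  obtain ⟨u, τ, S⟩ := exists_rep (fix_of_mem hT hA hα)
  have h1 := (fixZ_iff' hT hA hα S).1 h
  subst h1
  obtain ⟨k, hk⟩ := exists_pow hA hα
  exact ⟨u⁻¹, inv_mem S.mem, S.inner (fix_of_mem hT hA hα) hk⟩

/-- **(k1)** -/
theorem k1 {a b : MulAut ↥(chevG2.group K)} (ha : a ∈ A') (hb : b ∈ A') (haa : FixZ T (a * a))
    (hbb : FixZ T (b * b)) : FixZ T a ∨ FixZ T b ∨ FixZ T (a⁻¹ * b) := by
  have hfa := fix_of_mem hT hA ha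
  obtain ⟨u, τ, S⟩ := exists_rep hfa
  obtain ⟨v, τ', S'⟩ := exists_rep (fix_of_mem hT hA hb)
  have h1 := (fixZ_iff' hT hA (mul_mem ha ha) (S.mul S hfa)).1 haa
  have h2 := (fixZ_iff' hT hA (mul_mem hb hb) (S'.mul S' (fix_of_mem hT hA hb))).1 hbb
  have hcyc : IsCyclic (K ≃+* K) := LieRecognition.FieldSemilinear.isCyclic_ringAut K
  have hfin : Finite (K ≃+* K) := Finite.of_injective (fun τ : K ≃+* K => (τ : K → K)) DFunLike.coe_injective
  rcases cyclic_two h1 h2 with h3 | h3 | h3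
  · exact Or.inl ((fixZ_iff' hT hA ha S).2 h3)
  · exact Or.inr (Or.inl ((fixZ_iff' hT hA hb S').2 h3))
  · refine Or.inr (Or.inr ((fixZ_iff' hT hA (mul_mem (inv_mem ha) hb) ((S.inv hfa).mul S' hfa.inv)).2 ?_))
    rw [h3, inv_mul_cancel]

/-- **(k2)** -/
theorem k2 {e : MulAut ↥(chevG2.group K)} (he : e ∈ A') {g : ↥(chevG2.group K)}
    (H : ∀ z, InZ T z → e (g * z * g⁻¹) = g * z * g⁻¹) : FixZ T e := by
  obtain ⟨u, τ, S⟩ := exists_rep (fix_of_mem hT hA he)
  rw [fixZ_iff' hT hA he S]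
  obtain ⟨c, hc, h1⟩ := S.top
  obtain ⟨y, hy⟩ : ∃ y, y = g⁻¹ * e g := ⟨_, rfl⟩
  have h2 : ∀ t, y * xg K 11 (c * τ t) * y⁻¹ = xg K 11 t := by
    intro t
    have h3 := H _ ((inZ_iff hT).2 ⟨t, rfl⟩)
    rw [map_mul, map_mul, map_inv, h1] at h3
    rw [hy]
    calc g⁻¹ * e g * xg K 11 (c * τ t) * (g⁻¹ * e g)⁻¹ = g⁻¹ * (e g * xg K 11 (c * τ t) * (e g)⁻¹) * g := by group
      _ = xg K 11 t := by rw [h3]; group
  have h3 : cj y (XX K (vec chevG2 2 11)) = XX K (vec chevG2 2 11) := by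
    ext x
    rw [mem_cj, mem_XX (by norm_num), mem_XX (by norm_num)]
    constructor
    · rintro ⟨t, ht⟩
      refine ⟨τ.symm (c⁻¹ * t), ?_⟩
      rw [← h2, RingEquiv.apply_symm_apply, mul_inv_cancel_left₀ hc, ← ht]
      group
    · rintro ⟨t, rfl⟩
      refine ⟨c * τ t, ?_⟩
      rw [← h2]
      group
  obtain ⟨d, hd⟩ := scalar h3
  have h4 : ∀ t, d * (c * τ t) = t := fun t => xg_injective (K := K) (r := 11) (by norm_num) (by rw [← hd, h2])
  have h5 : d * c = 1 := by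
    have := h4 1
    rwa [map_one, mul_one] at this
  ext t
  have := h4 t
  rwa [← mul_assoc, h5, one_mul] at this

omit A' hA in
/-- the star property -/
theorem star {r : ℕ} (hr : 6 ≤ r) (hr' : r < 12) {u : ↥(chevG2.group K)} (hu : u ∈ Up K) {t : K} (ht : t ≠ 0)
    (hc : xg K r t * u = u * xg K r t) (v : K) : xg K r v * u = u * xg K r v := by
  have hW : Finite CoxeterMatrix.G₂.Group := finite_W isType CS
  have hL : r ∈ [6, 10, 11] → xg K r v * u = u * xg K r v := fun hm =>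
    star_of_LR (long (K := K) hm) hu ((mem_XX hr').2 ⟨t, rfl⟩) (fun h1 => ht (xg_inj hr' h1)) hc
      ((mem_XX hr').2 ⟨v, rfl⟩)
  have : r = 6 ∨ r = 7 ∨ r = 8 ∨ r = 9 ∨ r = 10 ∨ r = 11 := by omega
  rcases this with rfl | rfl | rfl | rfl | rfl | rfl
  · exact hL (by simp)
  · exact (gu (K := K)).star0 (Upos_le hu) ht hc v
  · exact (gu (K := K)).star2 (Upos_le hu) ht hc v
  · exact (gu (K := K)).star3 (Upos_le hu) ht hc v
  · exact hL (by simp)
  · exact hL (by simp)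

/-- **(k3)** -/
theorem k3 (hK : 3 ≤ Nat.card K) : FltA T A' (VV K) (fun j => {l | ∃ r, 6 ≤ r ∧ r < 12 ∧ hts r = j ∧
    l = XX K (vec chevG2 2 r)}) where
  zero := by rw [← Up_eq, hT]
  bot := ⟨6, VV_six⟩
  le j := V_anti (by omega)
  gen := by
    intro j u hu
    refine V_induction (C := fun u => u ∈ closure ({x | ∃ l ∈ {l | ∃ r, 6 ≤ r ∧ r < 12 ∧ hts r = j ∧
      l = XX K (vec chevG2 2 r)}, x ∈ l} ∪ (VV K (j + 1) : Set ↥(chevG2.group K)))) hu ?_ (one_mem _)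
      (fun _ _ _ _ hx hy => mul_mem hx hy)
    rintro ⟨x, hx⟩ hi g hg
    obtain ⟨s, hs, hs', rfl⟩ := pos_iff hx
    rw [wt_hts hs hs'] at hi
    refine subset_closure ?_
    by_cases h3 : hts s = j
    · exact Or.inl ⟨_, ⟨s, hs, hs', h3, rfl⟩, hg⟩
    · obtain ⟨t, rfl⟩ := (mem_XX hs').1 hg
      exact Or.inr (mem_VV hs hs' (by omega) t)
  line_le := by
    rintro j _ ⟨r, hr, hr', rfl, rfl⟩ g hg
    obtain ⟨t, rfl⟩ := (mem_XX hr').1 hg
    exact mem_VV hr hr' le_rfl t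
  sq := by
    rintro j _ ⟨r, hr, hr', rfl, rfl⟩ x hx
    rw [sq_of_mem hr' hx]
    exact one_mem _
  pair := by
    rintro j _ ⟨r, hr, hr', rfl, rfl⟩
    obtain ⟨t, ht0, ht1⟩ : ∃ t : K, t ≠ 0 ∧ t ≠ 1 := by
      by_contra hcon
      push Not at hcon
      classical
      have := Fintype.ofFinite K
      have h1 : (Finset.univ : Finset K) ⊆ {0, 1} := by
        intro a _
        rw [Finset.mem_insert, Finset.mem_singleton]
        by_cases ha : a = 0
        · exact Or.inl ha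
        · exact Or.inr (hcon a ha)
      have h2 := (Finset.card_le_card h1).trans Finset.card_le_two
      rw [Finset.card_univ, ← Nat.card_eq_fintype_card] at h2
      omega
    refine ⟨xg K r 1, (mem_XX hr').2 ⟨1, rfl⟩, xg K r t, (mem_XX hr').2 ⟨t, rfl⟩, fun h1 => ?_, fun h1 => ?_,
      fun h1 => ?_⟩
    · exact one_ne_zero (eq_zero_of_mem hr hr' (Nat.lt_succ_self _) h1)
    · exact ht0 (eq_zero_of_mem hr hr' (Nat.lt_succ_self _) h1)
    · rw [xg_inv, ← xg_add] at h1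
      have h2 := eq_zero_of_mem hr hr' (Nat.lt_succ_self _) h1
      have h3 : (1 : K) + 1 = 0 := two0 1
      exact ht1 (add_left_cancel (h2.trans h3.symm))
  star := by
    rintro j _ ⟨r, hr, hr', rfl, rfl⟩ y hy hyf - x hx hxn hyx x' hx'
    obtain ⟨u, hu, rfl⟩ := exists_conj hT hA hy hyf
    obtain ⟨t, rfl⟩ := (mem_XX hr').1 hx
    obtain ⟨t', rfl⟩ := (mem_XX hr').1 hx'
    rw [MulAut.conj_apply] at hyx ⊢
    have ht : t ≠ 0 := by
      rintro rfl
      exact hxn (by rw [xg_zero]; exact one_mem _)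
    have h1 := star hT hr hr' hu ht (by
      calc xg K r t * u = u * xg K r t * u⁻¹ * u := by rw [hyx]
        _ = u * xg K r t := by group) t'
    rw [← h1]
    group
  fix := by
    rintro j _ ⟨r, hr, hr', rfl, rfl⟩ x hx e he hef
    obtain ⟨u, hu, rfl⟩ := exists_conj hT hA he hef
    obtain ⟨t, rfl⟩ := (mem_XX hr').1 hx
    rw [MulAut.conj_apply]
    exact VV_comm _ (by rw [← Up_eq]; exact hu) _ (mem_VV hr hr' le_rfl t)

/-- the semilinear action on `Z(T)` -/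
theorem exists_pure {e : MulAut ↥(chevG2.group K)} (he : e ∈ A') {u : ↥(chevG2.group K)} {τ : K ≃+* K}
    (S : Rep e u τ) : ∃ a₀, a₀ ≠ 0 ∧ ∀ a, e (xg K 11 (a₀ * a)) = xg K 11 (a₀ * τ a) := by
  have hW : Finite CoxeterMatrix.G₂.Group := finite_W isType CS
  have : Fact (Nat.Prime 2) := ⟨Nat.prime_two⟩
  obtain ⟨k, hk⟩ := exists_pow hA he
  have h1 := S.fixU (fix_of_mem hT hA he) hk
  obtain ⟨a₀, ha₀, h2⟩ := Tau.pure (RR K) (CC K) S.tau h1 (isRoot_vec isType CS (lt_nroots (r := 11) (by norm_num))) rfl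
  refine ⟨a₀, ha₀, fun a => ?_⟩
  have h3 := h2 a
  rw [xc_eq (by norm_num), xc_eq (by norm_num), MulAut.mul_apply, MulAut.conj_apply] at h3
  have h4 : e (xg K 11 (a₀ * a)) = u⁻¹ * xg K 11 (a₀ * τ a) * u := by rw [← h3]; group
  rw [h4, mul_assoc, ← comm_11 S.mem, inv_mul_cancel_left]

/-- **(c1)** -/
theorem c1 (hK : 4 < Nat.card K) {e : MulAut ↥(chevG2.group K)} (he : e ∈ A') (hf : ¬ FixZ T e) :
    ∃ a b, InZ T a ∧ InZ T b ∧ e a ≠ a ∧ e b ≠ b ∧ e (a * b) ≠ a * b := by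
  obtain ⟨u, τ, S⟩ := exists_rep (fix_of_mem hT hA he)
  rw [fixZ_iff' hT hA he S] at hf
  obtain ⟨a₀, ha₀, h1⟩ := exists_pure hT hA he S
  have h3 : ∃ a b, τ a ≠ a ∧ τ b ≠ b ∧ τ (a + b) ≠ a + b := by
    by_contra hcon
    push Not at hcon
    apply hf
    refine eq_one_of_half hK fun a b => ?_
    by_cases h4 : τ a = a
    · exact Or.inl h4
    · by_cases h5 : τ b = b
      · exact Or.inr (Or.inl h5)
      · exact Or.inr (Or.inr (hcon a b h4 h5))
  have hne : ∀ a, τ a ≠ a → e (xg K 11 (a₀ * a)) ≠ xg K 11 (a₀ * a) := by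
    intro a ha hc
    rw [h1] at hc
    exact ha (mul_left_cancel₀ ha₀ (xg_injective (by norm_num) hc))
  obtain ⟨a, b, ha, hb, hab⟩ := h3
  refine ⟨_, _, (inZ_iff hT).2 ⟨a₀ * a, rfl⟩, (inZ_iff hT).2 ⟨a₀ * b, rfl⟩, hne a ha, hne b hb, ?_⟩
  rw [← xg_add, ← mul_add]
  exact hne _ hab

/-- `VV 4` is invariant -/
theorem inv4 {e : MulAut ↥(chevG2.group K)} (he : e ∈ A') {w : ↥(chevG2.group K)} (hw : w ∈ VV K 4) :
    e w ∈ VV K 4 := by
  obtain ⟨u, τ, S⟩ := exists_rep (fix_of_mem hT hA he)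
  obtain ⟨s, t, rfl⟩ := step4 hw
  obtain ⟨c, -, h1⟩ := S.root (r := 10) (by norm_num)
  obtain ⟨d, -, h2⟩ := S.root (r := 11) (by norm_num)
  have h3 : (MulAut.conj u * e) (xg K 10 s * xg K 11 t) ∈ VV K 4 := by
    rw [map_mul, h1, h2]
    exact mul_mem (mem_VV (by norm_num) (by norm_num) (by simp [hts]) _)
      (mem_VV (by norm_num) (by norm_num) (by simp [hts]) _)
  have h4 := VV_norm 4 (inv_mem (by rw [← Up_eq]; exact S.mem : u ∈ VV K 0)) _ h3
  rw [MulAut.mul_apply, MulAut.conj_apply] at h4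
  have h5 : u⁻¹ * (u * e (xg K 10 s * xg K 11 t) * u⁻¹) * u⁻¹⁻¹ = e (xg K 10 s * xg K 11 t) := by group
  rwa [h5] at h4

/-- **(c3)**, the elements -/
theorem c3 {e : MulAut ↥(chevG2.group K)} (he : e ∈ A') (hf : ¬ FixZ T e) :
    ∃ a ∈ VV K 4, ∃ b ∈ VV K 4, e a ≠ a ∧ e b ≠ b ∧ e (a * b) ≠ a * b := by
  obtain ⟨u, τ, S⟩ := exists_rep (fix_of_mem hT hA he)
  have hf' : τ ≠ 1 := fun h => hf ((fixZ_iff' hT hA he S).2 h)
  obtain ⟨c, -, h1⟩ := S.root (r := 10) (by norm_num)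
  obtain ⟨d, -, h2⟩ := S.top
  have hu0 : u ∈ VV K 0 := by rw [← Up_eq]; exact S.mem
  obtain ⟨t, ht⟩ : ∃ t, e (xg K 11 t) ≠ xg K 11 t := by
    by_contra hcon
    push Not at hcon
    exact hf' (S.tau_one hcon)
  obtain ⟨s, hs⟩ : ∃ s, e (xg K 10 s) * (xg K 10 s)⁻¹ ∉ VV K 5 := by
    by_contra hcon
    push Not at hcon
    have h3 : ∀ s, c * τ s = s := by
      intro s
      have h4 := h1 s
      rw [MulAut.mul_apply, MulAut.conj_apply] at h4
      have h5 : e (xg K 10 s) = u⁻¹ * xg K 10 (c * τ s) * u := by rw [← h4]; group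
      have h6 : u⁻¹ * xg K 10 (c * τ s) * u⁻¹⁻¹ * (xg K 10 (c * τ s))⁻¹ ∈ VV K 5 :=
        VV_comm 4 (inv_mem hu0) _ (mem_VV (by norm_num) (by norm_num) (by simp [hts]) _)
      rw [inv_inv, ← h5] at h6
      have h7 := mul_mem (inv_mem h6) (hcon s)
      have h8 : (e (xg K 10 s) * (xg K 10 (c * τ s))⁻¹)⁻¹ * (e (xg K 10 s) * (xg K 10 s)⁻¹) =
          xg K 10 (c * τ s + s) := by
        rw [mul_inv_rev, inv_inv, mul_assoc, inv_mul_cancel_left, xg_inv, xg_add]
      rw [h8] at h7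
      have h9 := eq_zero_of_mem (K := K) (r := 10) (by norm_num) (by norm_num) (by simp [hts]) h7
      have h10 : s + s = 0 := two0 s
      exact add_right_cancel (h9.trans h10.symm)
    apply hf'
    have h4 : c = 1 := by
      have := h3 1
      rwa [map_one, mul_one] at this
    ext a
    have := h3 a
    rwa [h4, one_mul] at this
  have h5 : ∀ t, xg K 11 t ∈ VV K 5 := fun t => mem_VV (by norm_num) (by norm_num) (by simp [hts]) t
  refine ⟨xg K 11 t, V_anti (by norm_num) (h5 t), xg K 10 s,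
    mem_VV (by norm_num) (by norm_num) (by simp [hts]) s, ht, fun h3 => ?_, fun h3 => ?_⟩
  · rw [h3, mul_inv_cancel] at hs
    exact hs (one_mem _)
  · apply hs
    rw [map_mul, h2] at h3
    have h4 : e (xg K 10 s) * (xg K 10 s)⁻¹ = (xg K 11 (d * τ t))⁻¹ * xg K 11 t := by
      calc e (xg K 10 s) * (xg K 10 s)⁻¹ =
          (xg K 11 (d * τ t))⁻¹ * (xg K 11 (d * τ t) * e (xg K 10 s)) * (xg K 10 s)⁻¹ := by group
        _ = _ := by rw [h3]; group
    rw [h4]
    exact mul_mem (inv_mem (h5 _)) (h5 _)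

omit A' hA in
theorem out : OutA T := by
  rcases Nat.lt_or_ge 4 (Nat.card K) with h4 | h4
  · exact Or.inl fun A' hA e he hf => c1 hT hA h4 he hf
  · refine Or.inr (Or.inr (Or.inl ⟨?_, fun A' hA => ⟨VV K 4, fun w hw => (mem_T hT).2 ?_, fun s hs w hw =>
      inv4 hT hA hs hw, fun w hw => ?_, fun e he hf _ => c3 hT hA he hf⟩⟩))
    · refine le_trans (Nat.card_le_card_of_surjective
        (fun t : K => (⟨xg K 11 t, (inZ_iff hT).2 ⟨t, rfl⟩⟩ : {z // InZ T z})) ?_) h4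
      rintro ⟨z, hz⟩
      obtain ⟨t, rfl⟩ := (inZ_iff hT).1 hz
      exact ⟨t, rfl⟩
    · rw [Up_eq]
      exact V_anti (Nat.zero_le _) hw
    · obtain ⟨s, t, rfl⟩ := step4 hw
      have c : xg K 10 s * xg K 11 t = xg K 11 t * xg K 10 s := (gu (K := K)).c45 s t
      calc xg K 10 s * xg K 11 t * (xg K 10 s * xg K 11 t) = xg K 10 s * (xg K 11 t * xg K 10 s) * xg K 11 t := by
            group
        _ = (xg K 10 s * xg K 10 s) * (xg K 11 t * xg K 11 t) := by rw [← c]; group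
        _ = 1 := by rw [xg_sq, xg_sq, mul_one]

end Facts

variable (K) in
theorem exists_sylow : ∃ T : Sylow 2 ↥(chevG2.group K), (T : Subgroup ↥(chevG2.group K)) = Up K := by
  have hW : Finite CoxeterMatrix.G₂.Group := finite_W isType CS
  have : Fact (Nat.Prime 2) := ⟨Nat.prime_two⟩
  have hU : IsPGroup 2 (Up K) := (RR K).isPGroup_Upos
  obtain ⟨S, hS⟩ := hU.exists_le_sylow
  exact ⟨S, eq_U_of_isPGroup (RR K) S.isPGroup' hS (by rw [gg_top K]; exact le_top)⟩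

/-- **The facts on `Aut G_2(q)`.** -/
theorem aFacts_G2 (hK : 3 ≤ Nat.card K) {T : Sylow 2 ↥(chevG2.group K)}
    (hT : (T : Subgroup ↥(chevG2.group K)) = Up K) : AFacts T where
  sq z hz := by
    obtain ⟨t, rfl⟩ := (inZ_iff hT).1 hz
    exact xg_sq 11 t
  cyc _ hA _ ha _ hb haa hbb := k1 hT hA ha hb haa hbb
  field _ hA _ he _ H := k2 hT hA he H
  filt _ hA := ⟨_, _, k3 hT hA hK⟩
  graph _ hA a ha _ _ haf _ := by
    obtain ⟨u, -, rfl⟩ := exists_conj hT hA ha haf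
    exact Or.inl ⟨u, rfl⟩
  out := out hT

/-- **`BFacts` for `G_2(q)`, `q ≥ 4` even.** -/
theorem bFacts_G2 {G : Type*} [Group G] [Finite G] {K₀ : Subgroup G} (hK : 3 ≤ Nat.card K)
    (e : ↥(chevG2.group K) ≃* ↥K₀) : BFacts K₀ := by
  obtain ⟨T, hT⟩ := exists_sylow K
  exact (aFacts_G2 hK hT).bfacts e

end

end Cfsg.Agent.OddHalf.D4.G2.Free
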